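import Cfsg.Agent.Lib.Signalizer.Basic

/-!
# The transitivity theorem for solvable signalizer functors
-/

set_option autoImplicit false

namespace CfsgLib.Signalizer

open Subgroup
open scoped Pointwise commutatorElement

variable {G : Type*} [Group G] [Finite G] {p : ℕ} [hp : Fact p.Prime]

theorem inf_hyperplanes_ne_bot {A B₁ B₂ : Subgroup G} (hA : Cfsg.IsElementaryAbelian p A)
    (hA3 : p ^ 3 ≤ Nat.card A) (h₁ : B₁ ≤ A) (i₁ : B₁.relIndex A = p) (i₂ : B₂.relIndex A = p) :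
    B₁ ⊓ B₂ ≠ ⊥ := by
  intro h
  have h1 := relIndex_inf_le (H := B₁) (K := B₂) (L := A)
  rw [h, relIndex_bot_left, i₁, i₂] at h1
  have := hp.out.two_le
  nlinarith

/-- An invariant `p'`-subgroup not inside `D` has `C_X(B)` outside `D` for some hyperplane `B`. -/
theorem exists_hyperplane_not_le {A X D : Subgroup G} (hA : Cfsg.IsElementaryAbelian p A)
    (hA1 : A ≠ ⊥) (hX : ¬ p ∣ Nat.card X) (hAX : A ≤ normalizer (X : Set G)) (hXD : ¬ X ≤ D) :
    ∃ B : Subgroup G, B ≤ A ∧ B.relIndex A = p ∧ ¬ X ⊓ centralizer (B : Set G) ≤ D := by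
  by_contra h
  push Not at h
  apply hXD
  rw [← CfsgLib.Coprime39.eq_hyperCent hA hA1 (CfsgLib.PCore.coprime_of_not_dvd_card hX) hAX]
  exact iSup_le fun B => h B.1 B.2.1 B.2.2

theorem ne_bot_of_pow_le {A : Subgroup G} {k : ℕ} (hA : p ^ k ≤ Nat.card A) (hk : k ≠ 0) :
    A ≠ ⊥ := by
  intro h
  rw [h, card_bot] at hA
  exact absurd hA (not_le.mpr (Nat.one_lt_pow hk hp.out.one_lt))

omit [Finite G] in
theorem le_normalizer_inf {A H K : Subgroup G} (h₁ : A ≤ normalizer (H : Set G))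
    (h₂ : A ≤ normalizer (K : Set G)) : A ≤ normalizer ((H ⊓ K : Subgroup G) : Set G) :=
  (le_inf h₁ h₂).trans inf_normalizer_le_normalizer_inf

omit [Finite G] in
theorem le_normalizer_normalizer {A D : Subgroup G} (h : A ≤ normalizer (D : Set G)) :
    A ≤ normalizer ((normalizer (D : Set G) : Subgroup G) : Set G) :=
  h.trans le_normalizer

theorem normalizer_inf_not_le {q : ℕ} [Fact q.Prime] {Q D : Subgroup G} (hQ : IsPGroup q Q)
    (hD : D < Q) : ¬ normalizer (D : Set G) ⊓ Q ≤ D := by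
  intro hle
  have hnil : Group.IsNilpotent Q := hQ.isNilpotent
  have hlt : D.subgroupOf Q < ⊤ := lt_top_iff_ne_top.mpr (fun h =>
    hD.not_ge (Subgroup.subgroupOf_eq_top.mp h))
  obtain ⟨x, hx, hxn⟩ := SetLike.exists_of_lt (Group.normalizerCondition_of_isNilpotent _ hlt)
  rw [← Subgroup.subgroupOf_normalizer_eq hD.le, Subgroup.mem_subgroupOf] at hx
  exact hxn (hle (mem_inf.mpr ⟨hx, x.2⟩))

/-- Two invariant `q`-subgroups: an element of `A` centralizing parts of both normalizers of the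
intersection outside it. -/
theorem exists_common_element {A Q₁ Q₂ : Subgroup G} {q : ℕ} [Fact q.Prime]
    (hA : Cfsg.IsElementaryAbelian p A) (hA3 : p ^ 3 ≤ Nat.card A) (hqp : q ≠ p)
    (h₁ : IsPGroup q Q₁) (h₂ : IsPGroup q Q₂) (hA₁ : A ≤ normalizer (Q₁ : Set G))
    (hA₂ : A ≤ normalizer (Q₂ : Set G)) (hD₁ : Q₁ ⊓ Q₂ ≠ Q₁) (hD₂ : Q₁ ⊓ Q₂ ≠ Q₂) :
    ∃ a ∈ A, a ≠ 1 ∧
      ¬ (normalizer ((Q₁ ⊓ Q₂ : Subgroup G) : Set G) ⊓ Q₁ ⊓ centralizer {a} ≤ Q₁ ⊓ Q₂) ∧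
      ¬ (normalizer ((Q₁ ⊓ Q₂ : Subgroup G) : Set G) ⊓ Q₂ ⊓ centralizer {a} ≤ Q₁ ⊓ Q₂) := by
  set D := Q₁ ⊓ Q₂ with hD
  have hA1 : A ≠ ⊥ := ne_bot_of_pow_le hA3 (by norm_num)
  have hAD : A ≤ normalizer (D : Set G) := le_normalizer_inf hA₁ hA₂
  have key : ∀ Q : Subgroup G, IsPGroup q Q → A ≤ normalizer (Q : Set G) → D < Q →
      ∃ B : Subgroup G, B ≤ A ∧ B.relIndex A = p ∧
        ¬ normalizer (D : Set G) ⊓ Q ⊓ centralizer (B : Set G) ≤ D := by
    intro Q hQ hAQ hlt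
    refine exists_hyperplane_not_le hA hA1 ?_
      (le_normalizer_inf (le_normalizer_normalizer hAD) hAQ) (normalizer_inf_not_le hQ hlt)
    intro hdvd
    obtain ⟨n, hn⟩ := IsPGroup.iff_card.mp (hQ.to_le (inf_le_right : normalizer (D : Set G) ⊓ Q ≤ Q))
    rw [hn] at hdvd
    exact hqp ((Nat.prime_dvd_prime_iff_eq hp.out Fact.out).mp (hp.out.dvd_of_dvd_pow hdvd)).symm
  obtain ⟨B₁, b₁, i₁, n₁⟩ := key Q₁ h₁ hA₁ (lt_of_le_of_ne inf_le_left hD₁)
  obtain ⟨B₂, b₂, i₂, n₂⟩ := key Q₂ h₂ hA₂ (lt_of_le_of_ne inf_le_right hD₂)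
  obtain ⟨⟨a, ha⟩, hne⟩ := (ne_bot_iff_exists_ne_one).mp (inf_hyperplanes_ne_bot hA hA3 b₁ i₁ i₂)
  have hcl : ∀ B : Subgroup G, a ∈ B → centralizer (B : Set G) ≤ centralizer {a} := fun B h =>
    centralizer_le (Set.singleton_subset_iff.mpr h)
  exact ⟨a, b₁ (mem_inf.mp ha).1, fun h => hne (Subtype.ext h),
    fun h => n₁ ((inf_le_inf_left _ (hcl _ (mem_inf.mp ha).1)).trans h),
    fun h => n₂ ((inf_le_inf_left _ (hcl _ (mem_inf.mp ha).2)).trans h)⟩

omit [Finite G] hp in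
theorem mem_family_of_le [Finite G] {A : Subgroup G} {θ : G → Subgroup G} {X Y : Subgroup G}
    (hX : X ∈ Cfsg.signalizerFamily p A θ) (hY : Y ≤ X) (hAY : A ≤ normalizer (Y : Set G)) :
    Y ∈ Cfsg.signalizerFamily p A θ :=
  ⟨isSolvable_of_le hY hX.1, not_dvd_of_le hY hX.2.1, conj_mem_of_le_normalizer hAY,
    fun a ha ha1 => (inf_le_inf_right _ hY).trans (hX.2.2.2 a ha ha1)⟩

omit [Finite G] hp in
theorem mem_family_theta {A : Subgroup G} {θ : G → Subgroup G}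
    (hθ : Cfsg.IsSolvableSignalizerFunctor p A θ) {a : G} (ha : a ∈ A) (ha1 : a ≠ 1) :
    θ a ∈ Cfsg.signalizerFamily p A θ :=
  ⟨hθ.2 a ha ha1, hθ.1.2.1 a ha ha1, hθ.1.2.2.1 a ha ha1, fun b hb hb1 => hθ.1.2.2.2 a ha ha1 b hb hb1⟩

omit [Finite G] hp in
theorem signalizerInf_le {A : Subgroup G} {θ : G → Subgroup G} {a : G} (ha : a ∈ A) (ha1 : a ≠ 1) :
    Cfsg.signalizerInf A θ ≤ θ a :=
  iInf_le (fun b : {b : G // b ∈ A ∧ b ≠ 1} => θ b) ⟨a, ha, ha1⟩

omit [Finite G] hp in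
theorem signalizerInf_le_centralizer {A : Subgroup G} {θ : G → Subgroup G}
    (hθ : Cfsg.IsSolvableSignalizerFunctor p A θ) :
    Cfsg.signalizerInf A θ ≤ centralizer (A : Set G) := by
  intro x hx
  rw [mem_centralizer_iff]
  intro a ha
  by_cases ha1 : a = 1
  · rw [ha1, one_mul, mul_one]
  · exact mem_centralizer_iff.mp (hθ.1.1 a ha ha1 (signalizerInf_le ha ha1 hx)) a rfl

omit [Finite G] in
/-- The part of a member centralized by `A` lies in every `θ a`. -/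
theorem member_inf_centralizer_le {A : Subgroup G} {θ : G → Subgroup G} {X : Subgroup G}
    (hX : X ∈ Cfsg.signalizerFamily p A θ) :
    X ⊓ centralizer (A : Set G) ≤ Cfsg.signalizerInf A θ :=
  le_iInf fun a => (inf_le_inf_left _ (centralizer_le (Set.singleton_subset_iff.mpr a.2.1))).trans
    (hX.2.2.2 a a.2.1 a.2.2)

omit [Finite G] hp in
theorem conj_mem_family [Finite G] {A : Subgroup G} {θ : G → Subgroup G}
    (hθ : Cfsg.IsSolvableSignalizerFunctor p A θ) {c : G} (hc : c ∈ Cfsg.signalizerInf A θ)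
    {X : Subgroup G} (hX : X ∈ Cfsg.signalizerFamily p A θ) :
    X.map (MulAut.conj c).toMonoidHom ∈ Cfsg.signalizerFamily p A θ := by
  obtain ⟨hs, hpX, hinv, hX4⟩ := hX
  have hcA : ∀ a ∈ A, a * c = c * a :=
    mem_centralizer_iff.mp (signalizerInf_le_centralizer hθ hc)
  refine ⟨Group.isSolvable_of_surjective
      (f := (equivMapOfInjective X _ (MulAut.conj c).injective).toMonoidHom)
      (equivMapOfInjective X _ (MulAut.conj c).injective).surjective, ?_, ?_, ?_⟩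
  · rwa [card_map_of_injective (MulAut.conj c).injective]
  · rintro b hb _ ⟨u, hu, rfl⟩
    refine ⟨b * u * b⁻¹, hinv b hb u hu, ?_⟩
    have e1 : b⁻¹ * c = c * b⁻¹ := by
      have := hcA b⁻¹ (inv_mem hb); exact this
    simp only [MulEquiv.coe_toMonoidHom, MulAut.conj_apply]
    have e2 : c⁻¹ * b⁻¹ = b⁻¹ * c⁻¹ := by
      have := congrArg (·⁻¹) (hcA b hb); simpa [mul_inv_rev] using this
    calc c * (b * u * b⁻¹) * c⁻¹ = c * b * u * (b⁻¹ * c⁻¹) := by group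
      _ = b * c * u * (c⁻¹ * b⁻¹) := by rw [hcA b hb, e2]
      _ = b * (c * u * c⁻¹) * b⁻¹ := by group
  · intro a ha ha1 g hg
    obtain ⟨⟨u, hu, rfl⟩, hgc⟩ := mem_inf.mp hg
    simp only [MulEquiv.coe_toMonoidHom, MulAut.conj_apply] at hgc ⊢
    have hcθ := signalizerInf_le ha ha1 hc
    have hca : c ∈ centralizer ({a} : Set G) := mem_centralizer_singleton_iff.mpr (hcA a ha).symm
    have huc : u ∈ centralizer ({a} : Set G) := by
      have := mul_mem (mul_mem (inv_mem hca) hgc) hca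
      simpa [mul_assoc] using this
    exact mul_mem (mul_mem hcθ (hX4 a ha ha1 (mem_inf.mpr ⟨hu, huc⟩))) (inv_mem hcθ)

/-- `Q` is maximal among the `q`-subgroups in the family of `θ`. -/
def IsMaxQMember (p q : ℕ) (A : Subgroup G) (θ : G → Subgroup G) (Q : Subgroup G) : Prop :=
  Q ∈ Cfsg.signalizerFamily p A θ ∧ IsPGroup q Q ∧
    ∀ R ∈ Cfsg.signalizerFamily p A θ, IsPGroup q R → Q ≤ R → R = Q

omit hp in
theorem exists_maxQMember_ge {A : Subgroup G} {θ : G → Subgroup G} {q : ℕ} {R : Subgroup G}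
    (hR : R ∈ Cfsg.signalizerFamily p A θ) (hRq : IsPGroup q R) :
    ∃ Q, IsMaxQMember p q A θ Q ∧ R ≤ Q := by
  obtain ⟨Q, hle, ⟨⟨hQ, hQq⟩, hmax⟩⟩ := (Set.toFinite
    {S : Subgroup G | S ∈ Cfsg.signalizerFamily p A θ ∧ IsPGroup q S}).exists_le_maximal
      (a := R) ⟨hR, hRq⟩
  exact ⟨Q, ⟨hQ, hQq, fun S hS hSq hQS => le_antisymm (hmax ⟨hS, hSq⟩ hQS) hQS⟩, hle⟩

theorem bot_mem_family (A : Subgroup G) (θ : G → Subgroup G) :
    (⊥ : Subgroup G) ∈ Cfsg.signalizerFamily p A θ :=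
  ⟨inferInstance, by rw [card_bot]; exact hp.out.not_dvd_one,
    fun b _ u hu => by rw [mem_bot] at hu ⊢; rw [hu]; group,
    fun a _ _ => inf_le_left.trans bot_le⟩

omit hp in
theorem conj_isMaxQMember {A : Subgroup G} {θ : G → Subgroup G} {q : ℕ}
    (hθ : Cfsg.IsSolvableSignalizerFunctor p A θ) {c : G} (hc : c ∈ Cfsg.signalizerInf A θ)
    {Q : Subgroup G} (hQ : IsMaxQMember p q A θ Q) :
    IsMaxQMember p q A θ (Q.map (MulAut.conj c).toMonoidHom) := by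
  refine ⟨conj_mem_family hθ hc hQ.1, hQ.2.1.map _, fun R hR hRq hle => ?_⟩
  have h := hQ.2.2 (R.map (MulAut.conj c⁻¹).toMonoidHom) (conj_mem_family hθ (inv_mem hc) hR)
    (hRq.map _) fun x hx => ⟨_, hle (mem_map_of_mem _ hx), by simp [mul_assoc]⟩
  refine le_antisymm (fun x hx => ?_) hle
  have hx' : c⁻¹ * x * c ∈ Q := h ▸ ⟨x, hx, by simp⟩
  exact ⟨_, hx', by simp [mul_assoc]⟩

omit [Finite G] in
theorem conj_map_map (c d : G) (X : Subgroup G) :
    (X.map (MulAut.conj c).toMonoidHom).map (MulAut.conj d).toMonoidHom =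
      X.map (MulAut.conj (d * c)).toMonoidHom := by
  rw [Subgroup.map_map]
  congr 1
  ext x
  simp [mul_assoc]

omit [Finite G] in
theorem conj_map_one (X : Subgroup G) : X.map (MulAut.conj (1 : G)).toMonoidHom = X := by
  ext x; simp

/-- The invariant Sylow subgroups of a member are conjugate under the signalizer intersection. -/
theorem member_sylow_conj {A H : Subgroup G} {θ : G → Subgroup G} {q : ℕ} [Fact q.Prime]
    (hA : Cfsg.IsElementaryAbelian p A) (hH : H ∈ Cfsg.signalizerFamily p A θ) (S T : Sylow q H)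
    (hS : A ≤ normalizer ((S : Subgroup H).map H.subtype : Set G))
    (hT : A ≤ normalizer ((T : Subgroup H).map H.subtype : Set G)) :
    ∃ c ∈ Cfsg.signalizerInf A θ, c ∈ H ∧ ((S : Subgroup H).map H.subtype).map
      (MulAut.conj c).toMonoidHom = (T : Subgroup H).map H.subtype := by
  have hAp := isPGroup_of_elemAb hA
  obtain ⟨c, hc, rfl⟩ := CfsgLib.Coprime.invariant_sylow_conj A H (le_normalizer_of_conj hH.2.2.1)
    (coprime_card_of_isPGroup hAp hH.2.1) (Or.inr hH.1) q S T hS hT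
  refine ⟨c, member_inf_centralizer_le hH (mem_inf.mpr ⟨c.2, hc⟩), c.2, ?_⟩
  ext x
  rw [CfsgLib.Coprime.mem_map_subtype_smul]
  refine ⟨fun ⟨y, hy, e⟩ => ?_, fun h => ⟨_, h, by simp [mul_assoc]⟩⟩
  rw [← e]
  have e2 : (c : G)⁻¹ * (MulAut.conj (c : G)).toMonoidHom y * c = y := by simp [mul_assoc]
  rw [e2]; exact hy

theorem member_sylow_ge {A H U : Subgroup G} {θ : G → Subgroup G} {q : ℕ} [Fact q.Prime]
    (hA : Cfsg.IsElementaryAbelian p A) (hH : H ∈ Cfsg.signalizerFamily p A θ) (hU : U ≤ H)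
    (hUq : IsPGroup q U) (hAU : A ≤ normalizer (U : Set G)) :
    ∃ S : Sylow q H, U ≤ (S : Subgroup H).map H.subtype ∧
      A ≤ normalizer ((S : Subgroup H).map H.subtype : Set G) :=
  CfsgLib.Coprime.exists_invariant_sylow_ge A H (le_normalizer_of_conj hH.2.2.1)
    (coprime_card_of_isPGroup (isPGroup_of_elemAb hA) hH.2.1) (Or.inr hH.1) q U hU hUq hAU

/-- **Transitivity theorem.** -/
theorem transitivity {A : Subgroup G} {θ : G → Subgroup G} {q : ℕ} [Fact q.Prime]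
    (hA : Cfsg.IsElementaryAbelian p A) (hA3 : p ^ 3 ≤ Nat.card A)
    (hθ : Cfsg.IsSolvableSignalizerFunctor p A θ) {Q₁ Q₂ : Subgroup G}
    (h₁ : IsMaxQMember p q A θ Q₁) (h₂ : IsMaxQMember p q A θ Q₂) :
    ∃ c ∈ Cfsg.signalizerInf A θ, Q₁.map (MulAut.conj c).toMonoidHom = Q₂ := by
  induction hn : Nat.card G - Nat.card ↥(Q₁ ⊓ Q₂) using Nat.strong_induction_on
    generalizing Q₁ Q₂ with
  | _ n ih =>
  set D := Q₁ ⊓ Q₂ with hDdef
  by_cases hD₁ : D = Q₁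
  · exact ⟨1, one_mem _, by rw [conj_map_one]; exact (h₁.2.2 Q₂ h₂.1 h₂.2.1 (inf_eq_left.mp hD₁)).symm⟩
  by_cases hD₂ : D = Q₂
  · exact ⟨1, one_mem _, by rw [conj_map_one]; exact h₂.2.2 Q₁ h₁.1 h₁.2.1 (inf_eq_right.mp hD₂)⟩
  by_cases hqp : q = p
  · subst hqp
    exfalso
    apply hD₁
    have h1 : Q₁ = ⊥ := by
      obtain ⟨k, hk⟩ := IsPGroup.iff_card.mp h₁.2.1
      rcases Nat.eq_zero_or_pos k with rfl | hk0
      · exact card_eq_one.mp (by simpa using hk)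
      · exact absurd (hk ▸ dvd_pow_self _ hk0.ne') h₁.1.2.1
    rw [hDdef, h1, bot_inf_eq]
  have hAQ₁ := le_normalizer_of_conj h₁.1.2.2.1
  have hAQ₂ := le_normalizer_of_conj h₂.1.2.2.1
  obtain ⟨a, ha, ha1, n₁, n₂⟩ :=
    exists_common_element hA hA3 hqp h₁.2.1 h₂.2.1 hAQ₁ hAQ₂ hD₁ hD₂
  have hAD : A ≤ normalizer (D : Set G) := le_normalizer_inf hAQ₁ hAQ₂
  set N := θ a ⊓ normalizer (D : Set G)
  have hN : N ∈ Cfsg.signalizerFamily p A θ :=
    mem_family_of_le (mem_family_theta hθ ha ha1) inf_le_left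
      (le_normalizer_inf (le_normalizer_of_conj (hθ.1.2.2.1 a ha ha1)) (le_normalizer_normalizer hAD))
  set K := D ⊔ N
  have hK : K ∈ Cfsg.signalizerFamily p A θ :=
    sup_mem_family hA (mem_family_of_le h₁.1 inf_le_left hAD) hN inf_le_right
  have hbig : ∀ Q : Subgroup G, IsMaxQMember p q A θ Q → D ≤ Q →
      ¬ normalizer (D : Set G) ⊓ Q ⊓ centralizer {a} ≤ D →
      ∃ U : Subgroup G, U ≤ Q ∧ U ≤ K ∧ IsPGroup q U ∧ A ≤ normalizer (U : Set G) ∧
        Nat.card D < Nat.card U := by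
    intro Q hQ hDQ hn'
    refine ⟨D ⊔ (normalizer (D : Set G) ⊓ Q ⊓ centralizer {a}),
      sup_le hDQ (inf_le_left.trans inf_le_right),
      sup_le le_sup_left (le_trans ?_ le_sup_right), hQ.2.1.to_le
        (sup_le hDQ (inf_le_left.trans inf_le_right)), ?_, ?_⟩
    · exact le_inf ((inf_le_inf_right _ inf_le_right).trans (hQ.1.2.2.2 a ha ha1))
        (inf_le_left.trans inf_le_left)
    · exact (le_inf hAD (le_normalizer_inf (le_normalizer_inf (le_normalizer_normalizer hAD)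
        (le_normalizer_of_conj hQ.1.2.2.1))
          (conj_mem_centralizer hA (Set.singleton_subset_iff.mpr ha)))).trans
        (normalizer_inf_normalizer_le_normalizer_sup _ _)
    · exact lt_of_le_of_ne (card_le_of_le le_sup_left)
        fun h => hn' (le_sup_right.trans (Subgroup.eq_of_le_of_card_ge le_sup_left h.ge).ge)
  obtain ⟨U₁, u₁Q, u₁K, u₁q, u₁A, u₁D⟩ := hbig Q₁ h₁ inf_le_left n₁
  obtain ⟨U₂, u₂Q, u₂K, u₂q, u₂A, u₂D⟩ := hbig Q₂ h₂ inf_le_right n₂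
  obtain ⟨S, hS, hSA⟩ := member_sylow_ge hA hK u₁K u₁q u₁A
  obtain ⟨T, hT, hTA⟩ := member_sylow_ge hA hK u₂K u₂q u₂A
  obtain ⟨c, hc, -, hcST⟩ := member_sylow_conj hA hK S T hSA hTA
  obtain ⟨Q₀, hQ₀, hSQ₀⟩ := exists_maxQMember_ge
    (mem_family_of_le hK (map_subtype_le _) hSA) (S.isPGroup'.map K.subtype)
  have hsmall : ∀ {X U : Subgroup G}, U ≤ X → Nat.card D < Nat.card U →
      Nat.card G - Nat.card X < n := by
    intro X U hUX hlt
    have h1 := card_le_of_le hUX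
    have h2 := card_le_card_group X
    omega
  obtain ⟨d, hd, hdQ⟩ := ih _ (hsmall (le_inf u₁Q (hS.trans hSQ₀)) u₁D) h₁ hQ₀ rfl
  have hQc := conj_isMaxQMember hθ hc hQ₀
  obtain ⟨e, he, heQ⟩ := ih _ (hsmall (le_inf ((hT.trans hcST.ge).trans (map_mono hSQ₀)) u₂Q) u₂D)
    hQc h₂ rfl
  exact ⟨e * (c * d), mul_mem he (mul_mem hc hd), by
    rw [← conj_map_map, ← conj_map_map, hdQ, heQ]⟩

/-- Every member meets a conjugate of a maximal `q`-member in a Sylow `q`-subgroup. -/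
theorem exists_conj_inf_sylow {A : Subgroup G} {θ : G → Subgroup G} {q : ℕ} [Fact q.Prime]
    (hA : Cfsg.IsElementaryAbelian p A) (hA3 : p ^ 3 ≤ Nat.card A)
    (hθ : Cfsg.IsSolvableSignalizerFunctor p A θ) {Q H : Subgroup G}
    (hQ : IsMaxQMember p q A θ Q) (hH : H ∈ Cfsg.signalizerFamily p A θ) :
    ∃ c ∈ Cfsg.signalizerInf A θ, ∃ S : Sylow q H,
      (S : Subgroup H).map H.subtype = Q.map (MulAut.conj c).toMonoidHom ⊓ H := by
  have hb := bot_mem_family (p := p) A θ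
  obtain ⟨S, -, hSA⟩ := member_sylow_ge (q := q) hA hH (bot_le (a := H)) IsPGroup.of_bot
    (le_normalizer_of_conj hb.2.2.1)
  obtain ⟨Q', hQ', hSQ'⟩ := exists_maxQMember_ge
    (mem_family_of_le hH (map_subtype_le _) hSA) (S.isPGroup'.map H.subtype)
  obtain ⟨c, hc, rfl⟩ := transitivity hA hA3 hθ hQ hQ'
  refine ⟨c, hc, S, le_antisymm (le_inf hSQ' (map_subtype_le _)) ?_⟩
  set P := Q.map (MulAut.conj c).toMonoidHom ⊓ H
  have hP : IsPGroup q (P.subgroupOf H) := (hQ'.2.1.to_le inf_le_left).comap_subtype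
  have hle : (S : Subgroup H) ≤ P.subgroupOf H := fun x hx =>
    mem_subgroupOf.mpr (mem_inf.mpr ⟨hSQ' (mem_map_of_mem H.subtype hx), x.2⟩)
  rw [← S.is_maximal' hP hle, map_subgroupOf_eq_of_le inf_le_right]

/-- `Q ∩ C(B)` is a Sylow `q`-subgroup of `θ(C(B))`. -/
theorem inf_centralizer_sylow {A : Subgroup G} {θ : G → Subgroup G} {q : ℕ} [Fact q.Prime]
    (hA : Cfsg.IsElementaryAbelian p A) (hA3 : p ^ 3 ≤ Nat.card A)
    (hθ : Cfsg.IsSolvableSignalizerFunctor p A θ) {Q B : Subgroup G}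
    (hQ : IsMaxQMember p q A θ Q) (hB : B ≤ A) (hB1 : B ≠ ⊥) :
    ∃ S : Sylow q ↥(Cfsg.signalizerInf B θ),
      (S : Subgroup ↥(Cfsg.signalizerInf B θ)).map (Cfsg.signalizerInf B θ).subtype =
        Q ⊓ centralizer (B : Set G) := by
  set H := Cfsg.signalizerInf B θ with hHdef
  obtain ⟨⟨b, hb⟩, hne⟩ := (ne_bot_iff_exists_ne_one).mp hB1
  have hb1 : b ≠ 1 := fun h => hne (Subtype.ext h)
  have hH : H ∈ Cfsg.signalizerFamily p A θ :=
    mem_family_of_le (mem_family_theta hθ (hB hb) hb1) (signalizerInf_le hb hb1)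
      ((le_iInf fun x : {x : G // x ∈ B ∧ x ≠ 1} =>
        le_normalizer_of_conj (hθ.1.2.2.1 x (hB x.2.1) x.2.2)).trans
        (iInf_normalizer_le_normalizer_iInf _))
  obtain ⟨c, hc, S, hS⟩ := exists_conj_inf_sylow hA hA3 hθ hQ hH
  have hcH : c ∈ H := (mem_iInf).mpr fun x => signalizerInf_le (hB x.2.1) x.2.2 hc
  refine ⟨(⟨c, hcH⟩ : H)⁻¹ • S, ?_⟩
  ext x
  rw [CfsgLib.Coprime.mem_map_subtype_smul, hS]
  simp only [coe_inv, inv_inv, mem_inf]
  constructor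
  · rintro ⟨⟨y, hy, e⟩, hxH⟩
    simp only [MulEquiv.coe_toMonoidHom, MulAut.conj_apply] at e
    have e' : x = y := by
      have := congrArg (fun z => c⁻¹ * z * c) e
      simpa [mul_assoc] using this.symm
    refine ⟨e' ▸ hy, mem_centralizer_iff.mpr fun u hu => ?_⟩
    have hx : x ∈ H := by
      have := mul_mem (mul_mem (inv_mem hcH) hxH) hcH
      simpa [mul_assoc] using this
    by_cases hu1 : u = 1
    · rw [hu1, one_mul, mul_one]
    · exact mem_centralizer_iff.mp (hθ.1.1 u (hB hu) hu1 (signalizerInf_le hu hu1 hx)) u rfl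
  · rintro ⟨hx, hxc⟩
    have hxH : x ∈ H := (mem_iInf).mpr fun u => hQ.1.2.2.2 u (hB u.2.1) u.2.2
      (mem_inf.mpr ⟨hx, centralizer_le (Set.singleton_subset_iff.mpr u.2.1) hxc⟩)
    exact ⟨⟨x, hx, rfl⟩, mul_mem (mul_mem hcH hxH) (inv_mem hcH)⟩

end CfsgLib.Signalizer
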