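import Cfsg.Agent.Lib.Coprime.Action
import Cfsg.Agent.Lib.Coprime.HyperplaneGeneration
import Cfsg.Agent.Lib.InvChar.SolvableTwo
import Cfsg.Agent.Lib.PCore.Basic
import Cfsg.Agent.Lib.Structure.Subnormal
import Cfsg.Prelude.Def_Balance
import Cfsg.Prelude.Def_Local

/-!
# Signalizer functors: basic API

Facts about signalizer functors, their families and coprime action of elementary abelian groups.
-/

set_option autoImplicit false

namespace CfsgLib.Signalizer

open Subgroup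
open scoped Pointwise commutatorElement

variable {G : Type*} [Group G] {p : ℕ}

theorem commute_of_mem {A : Subgroup G} (hA : Cfsg.IsElementaryAbelian p A) {a b : G} (ha : a ∈ A)
    (hb : b ∈ A) : a * b = b * a :=
  congrArg Subtype.val (hA.1.is_comm.comm ⟨a, ha⟩ ⟨b, hb⟩)

theorem isPGroup_of_elemAb {A : Subgroup G} (hA : Cfsg.IsElementaryAbelian p A) : IsPGroup p A :=
  fun a => ⟨1, Subtype.ext (by simpa using hA.2 a a.2)⟩

theorem isElementaryAbelian_of_le {A B : Subgroup G} (hA : Cfsg.IsElementaryAbelian p A)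
    (hB : B ≤ A) : Cfsg.IsElementaryAbelian p B :=
  ⟨⟨⟨fun x y => Subtype.ext (commute_of_mem hA (hB x.2) (hB y.2))⟩⟩, fun x hx => hA.2 x (hB hx)⟩

theorem isSolvable_of_isPGroup [Finite G] [Fact p.Prime] {A : Subgroup G} (hA : IsPGroup p A) :
    Group.IsSolvable A :=
  haveI := hA.isNilpotent
  inferInstance

theorem coprime_card_of_isPGroup [Finite G] [hp : Fact p.Prime] {B K : Subgroup G}
    (hB : IsPGroup p B) (hK : ¬ p ∣ Nat.card K) : (Nat.card B).Coprime (Nat.card K) := by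
  obtain ⟨n, hn⟩ := IsPGroup.iff_card.mp hB
  exact hn ▸ ((hp.out.coprime_iff_not_dvd.mpr hK).pow_left n)

theorem not_dvd_of_le [Finite G] {H K : Subgroup G} (hle : H ≤ K) (hK : ¬ p ∣ Nat.card K) :
    ¬ p ∣ Nat.card H :=
  fun h => hK (h.trans (card_dvd_of_le hle))

theorem isSolvable_of_le {H K : Subgroup G} (hle : H ≤ K) (hK : Group.IsSolvable K) :
    Group.IsSolvable H :=
  @Group.isSolvable_of_isSolvable_injective _ _ _ _ (inclusion hle) (inclusion_injective _) hK

theorem le_normalizer_of_conj {A X : Subgroup G} (h : ∀ b ∈ A, ∀ x ∈ X, b * x * b⁻¹ ∈ X) :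
    A ≤ normalizer (X : Set G) :=
  le_normalizer_iff.mpr fun a ha x hx => h a ha x hx

theorem conj_mem_of_le_normalizer {A X : Subgroup G} (h : A ≤ normalizer (X : Set G)) :
    ∀ b ∈ A, ∀ x ∈ X, b * x * b⁻¹ ∈ X :=
  fun _ hb _ hx => (mem_normalizer_iff.mp (h hb) _).mp hx

theorem centralizer_zpowers (x : G) : centralizer (zpowers x : Set G) = centralizer ({x} : Set G) := by
  rw [zpowers_eq_closure, centralizer_closure]

theorem conj_mem_centralizer {A : Subgroup G} (hA : Cfsg.IsElementaryAbelian p A) {S : Set G}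
    (hS : S ⊆ A) : A ≤ normalizer ((centralizer S : Subgroup G) : Set G) :=
  le_normalizer_of_conj fun a ha x hx => mem_centralizer_iff.mpr fun s hs => by
    have h1 : Commute s x := mem_centralizer_iff.mp hx s hs
    have h2 : Commute s a := commute_of_mem hA (hS hs) ha
    exact ((h2.mul_right h1).mul_right h2.inv_right).eq

/-- Elements of `X ⊔ Y` fixed by a `p`-group `S`, where `Y` normalizes the `p'`-group `X`. -/
theorem exists_mul_fixed [Finite G] [Fact p.Prime] {S X Y : Subgroup G} (hS : IsPGroup p S)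
    (hSX : S ≤ normalizer (X : Set G)) (hSY : S ≤ normalizer (Y : Set G))
    (hY : ¬ p ∣ Nat.card Y) (hn : Y ≤ normalizer (X : Set G)) {g : G} (hg : g ∈ X ⊔ Y)
    (hc : g ∈ centralizer (S : Set G)) :
    ∃ x ∈ X ⊓ centralizer (S : Set G), ∃ y ∈ Y ⊓ centralizer (S : Set G), g = x * y := by
  rw [← SetLike.mem_coe, coe_mul_of_right_le_normalizer_left X Y hn, Set.mem_mul] at hg
  obtain ⟨x, hx, y, hy, rfl⟩ := hg
  replace hx : x ∈ X := hx
  replace hy : y ∈ Y := hy
  obtain ⟨c, hcY, hcN⟩ := CfsgLib.Coprime.exists_centralizing_rep S Y hSY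
    (coprime_card_of_isPGroup hS hY) (Or.inl (isSolvable_of_isPGroup hS)) (X ⊓ Y) inf_le_right
    ((le_inf hSX hSY).trans inf_normalizer_le_normalizer_inf) hy fun a ha => by
      have h : a * (x * y) * a⁻¹ = x * y := by
        rw [mem_centralizer_iff.mp hc a ha, mul_inv_cancel_right]
      refine mem_inf.mpr ⟨?_, mul_mem (inv_mem hy) (conj_mem_of_le_normalizer hSY a ha y hy)⟩
      have e : y⁻¹ * (a * y * a⁻¹) = y⁻¹ * ((a * x * a⁻¹)⁻¹ * x) * y⁻¹⁻¹ := by
        calc y⁻¹ * (a * y * a⁻¹) = y⁻¹ * ((a * x * a⁻¹)⁻¹ * (a * (x * y) * a⁻¹)) := by group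
          _ = _ := by rw [h]; group
      rw [e]
      exact (mem_normalizer_iff.mp (inv_mem (hn hy)) _).mp
        (mul_mem (inv_mem (conj_mem_of_le_normalizer hSX a ha x hx)) hx)
  refine ⟨x * y * c⁻¹, mem_inf.mpr ⟨?_, mul_mem hc (inv_mem hcY.2)⟩, c, hcY, by group⟩
  have e : x * y * c⁻¹ = x * (y * (y⁻¹ * c)⁻¹ * y⁻¹) := by group
  rw [e]
  exact mul_mem hx ((mem_normalizer_iff.mp (hn hy) _).mp (inv_mem hcN.1))

/-- Members `X`, `Y` of the family with `Y ≤ N(X)` have their product in the family. -/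
theorem sup_mem_family [Finite G] [Fact p.Prime] {A : Subgroup G} (hA : Cfsg.IsElementaryAbelian p A)
    {θ : G → Subgroup G} {X Y : Subgroup G} (hX : X ∈ Cfsg.signalizerFamily p A θ)
    (hY : Y ∈ Cfsg.signalizerFamily p A θ) (hn : Y ≤ normalizer (X : Set G)) :
    X ⊔ Y ∈ Cfsg.signalizerFamily p A θ := by
  obtain ⟨hXs, hXp, hXA, hXθ⟩ := hX
  obtain ⟨hYs, hYp, hYA, hYθ⟩ := hY
  refine ⟨?_, ?_, conj_mem_of_le_normalizer ((le_inf (le_normalizer_of_conj hXA)
    (le_normalizer_of_conj hYA)).trans (normalizer_inf_normalizer_le_normalizer_sup X Y)),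
    fun a ha ha1 g hg => ?_⟩
  · exact CfsgLib.Structure.isSolvable_sup_of_le_normalizer hn
  · intro h
    haveI := CfsgLib.Structure.normal_subgroupOf_sup hn
    have h1 := CfsgLib.PCore.card_sup_dvd_mul (X.subgroupOf (X ⊔ Y)) (Y.subgroupOf (X ⊔ Y))
    rw [CfsgLib.Structure.subgroupOf_sup_subgroupOf, card_top,
      Nat.card_congr (subgroupOfEquivOfLe (le_sup_left : X ≤ X ⊔ Y)).toEquiv,
      Nat.card_congr (subgroupOfEquivOfLe (le_sup_right : Y ≤ X ⊔ Y)).toEquiv] at h1
    exact ((Fact.out : p.Prime).dvd_mul.mp (h.trans h1)).elim hXp hYp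
  · rw [← centralizer_zpowers, mem_inf] at hg
    have hS : IsPGroup p (zpowers a) :=
      (isPGroup_of_elemAb hA).to_le (zpowers_le.mpr ha)
    obtain ⟨x, hx, y, hy, rfl⟩ := exists_mul_fixed hS
      ((zpowers_le.mpr ha).trans (le_normalizer_of_conj hXA))
      ((zpowers_le.mpr ha).trans (le_normalizer_of_conj hYA)) hYp hn hg.1 hg.2
    rw [centralizer_zpowers] at hx hy
    exact mul_mem (hXθ a ha ha1 hx) (hYθ a ha ha1 hy)

end CfsgLib.Signalizer
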