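import Cfsg.Agent.Lib.Signalizer.Basic

/-!
# Subgroups locally contained in a core

For a noncyclic (or just nontrivial) elementary abelian `p`-group `A` acting on a solvable `p'`-group `K`,
a `q'`-subgroup `U` of `K` with `⁅U, C_K(B)⁆` a `q'`-group for all hyperplanes `B` lies in `O_{q'}(K)`.
-/

set_option autoImplicit false

namespace CfsgLib.Signalizer

open Subgroup
open scoped Pointwise commutatorElement

variable {G : Type*} [Group G] [Finite G] {p q : ℕ} [Fact p.Prime] [Fact q.Prime]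

theorem eq_bot_of_hyperplanes_reduced {A K U : Subgroup G} [K.Normal]
    (hA : Cfsg.IsElementaryAbelian p A) (hA1 : A ≠ ⊥) (hK : ¬ p ∣ Nat.card K)
    (hKs : Group.IsSolvable K) (hO : Cfsg.pPrimeCore q K = ⊥) (hU : U ≤ K)
    (hUq : ¬ q ∣ Nat.card U)
    (hcomm : ∀ B : Subgroup G, B ≤ A → B.relIndex A = p →
      ¬ q ∣ Nat.card ↥⁅U, K ⊓ centralizer (B : Set G)⁆) : U = ⊥ := by
  set Q := (Cfsg.pCore q K).map K.subtype with hQdef
  have hQq : IsPGroup q Q := CfsgLib.PCore.pCore_isPGroup.map _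
  have hQK : Q ≤ K := map_subtype_le _
  haveI hQn : Q.Normal := by
    refine normalizer_eq_top_iff.mp (top_le_iff.mp ?_)
    exact (normalizer_eq_top (H := K)).ge.trans
      (CfsgLib.Structure.normalizer_le_normalizer_map_subtype K _)
  have hc : U ≤ centralizer (Q : Set G) := by
    have hQ : Q ≤ centralizer (U : Set G) := by
      rw [← CfsgLib.Coprime39.eq_hyperCent hA hA1 (Nat.Coprime.symm
        (((Fact.out : p.Prime).coprime_iff_not_dvd).mpr (not_dvd_of_le hQK hK))) le_normalizer_of_normal]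
      refine iSup_le fun B => ?_
      rw [← commutator_eq_bot_iff_le_centralizer, eq_bot_iff, commutator_le]
      intro z hz u hu
      have h1 : ⁅z, u⁆ ∈ Q := by
        rw [commutatorElement_def, mul_assoc, mul_assoc]
        refine mul_mem hz.1 ?_
        rw [← mul_assoc]
        exact hQn.conj_mem _ (inv_mem hz.1) u
      have h2 : ⁅z, u⁆ ∈ ⁅U, K ⊓ centralizer ((B : Subgroup G) : Set G)⁆ := by
        rw [← commutatorElement_inv]
        exact inv_mem (commutator_mem_commutator hu (mem_inf.mpr ⟨hQK hz.1, hz.2⟩))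
      rw [← CfsgLib.PCore.inf_eq_bot_of_isPGroup_coprime hQq
        (CfsgLib.PCore.coprime_of_not_dvd_card (hcomm B.1 B.2.1 B.2.2))]
      exact ⟨h1, h2⟩
    exact le_centralizer_iff.mp hQ
  haveI := hKs
  have hUQ : U ≤ Q := fun u hu => by
    have h : (⟨u, hU hu⟩ : K) ∈ centralizer (Cfsg.pCore q K : Set K) :=
      mem_centralizer_iff.mpr fun x hx => Subtype.ext
        (mem_centralizer_iff.mp (hc hu) (x : G) (mem_map_of_mem _ hx))
    exact ⟨_, CfsgLib.InvChar.centralizer_pCore_le hO h, rfl⟩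
  exact CfsgLib.PCore.eq_bot_of_isPGroup_coprime (hQq.to_le hUQ)
    (CfsgLib.PCore.coprime_of_not_dvd_card hUq)

/-- A `q'`-subgroup `U` of `K` with `⁅U, C_K(B)⁆` a `q'`-group for each hyperplane `B` of `A` lies in
`O_{q'}(K)`. -/
theorem le_pPrimeCore_of_hyperplanes {A K U : Subgroup G}
    (hA : Cfsg.IsElementaryAbelian p A) (hA1 : A ≠ ⊥) (hK : ¬ p ∣ Nat.card K)
    (hKs : Group.IsSolvable K) (hAK : A ≤ normalizer (K : Set G)) (hU : U ≤ K)
    (hUq : ¬ q ∣ Nat.card U)
    (hcomm : ∀ B : Subgroup G, B ≤ A → B.relIndex A = p →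
      ¬ q ∣ Nat.card ↥⁅U, K ⊓ centralizer (B : Set G)⁆) :
    U ≤ (Cfsg.pPrimeCore q K).map K.subtype := by
  set O := (Cfsg.pPrimeCore q K).map K.subtype with hOdef
  set N := normalizer (K : Set G)
  have hKN : K ≤ N := le_normalizer
  have hON : N ≤ normalizer (O : Set G) := CfsgLib.Structure.normalizer_le_normalizer_map_subtype K _
  have hOK : O ≤ K := map_subtype_le _
  haveI : (O.subgroupOf N).Normal :=
    (normal_subgroupOf_iff_le_normalizer (hOK.trans hKN)).mpr hON
  haveI : (K.subgroupOf N).Normal := (normal_subgroupOf_iff_le_normalizer hKN).mpr le_rfl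
  set f := QuotientGroup.mk' (O.subgroupOf N) with hf
  have hfs : Function.Surjective f := QuotientGroup.mk'_surjective _
  set K' := (K.subgroupOf N).map f with hK'
  set A' := (A.subgroupOf N).map f with hA'
  set U' := (U.subgroupOf N).map f with hU'
  haveI : K'.Normal := Subgroup.Normal.map inferInstance _ hfs
  have hAp : IsPGroup p A := isPGroup_of_elemAb hA
  have hAinj : ∀ x ∈ A.subgroupOf N, f x = 1 → x = 1 := by
    intro x hx h
    rw [hf, QuotientGroup.mk'_apply, QuotientGroup.eq_one_iff, mem_subgroupOf] at h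
    have h2 : (x : G) ∈ A ⊓ K := mem_inf.mpr ⟨hx, hOK h⟩
    rw [CfsgLib.PCore.inf_eq_bot_of_isPGroup_coprime hAp
      (CfsgLib.PCore.coprime_of_not_dvd_card hK), mem_bot] at h2
    exact Subtype.ext h2
  -- `A'` is elementary abelian and nontrivial
  have hA'e : Cfsg.IsElementaryAbelian p A' := by
    refine ⟨⟨⟨fun x y => Subtype.ext ?_⟩⟩, ?_⟩
    · obtain ⟨x', hx', hx⟩ := x.2
      obtain ⟨y', hy', hy⟩ := y.2
      have h : x' * y' = y' * x' := Subtype.ext (commute_of_mem hA hx' hy')
      simp only [Subgroup.coe_mul, ← hx, ← hy, ← map_mul, h]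
    · rintro _ ⟨x, hx, rfl⟩
      rw [← map_pow, show x ^ p = 1 from Subtype.ext (by simpa using hA.2 _ hx), map_one]
  have hA'1 : A' ≠ ⊥ := by
    obtain ⟨⟨a, ha⟩, hne⟩ := (ne_bot_iff_exists_ne_one).mp hA1
    have ha1 : a ≠ 1 := fun h => hne (Subtype.ext h)
    intro h
    exact ha1 (congrArg Subtype.val (hAinj ⟨a, hAK ha⟩ ha
      (mem_bot.mp (h ▸ mem_map_of_mem f (show (⟨a, hAK ha⟩ : N) ∈ A.subgroupOf N from ha)))))
  -- the quotient of `K`
  let g : K →* K' := ((f.comp (inclusion hKN))).codRestrict K' fun k => mem_map_of_mem f k.2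
  have hgs : Function.Surjective g := by
    rintro ⟨_, k, hk, rfl⟩
    exact ⟨⟨k, hk⟩, Subtype.ext rfl⟩
  have hgk : g.ker = Cfsg.pPrimeCore q K := by
    ext k
    rw [MonoidHom.mem_ker]
    refine ⟨fun h => ?_, fun h => Subtype.ext ?_⟩
    · have h' : f (inclusion hKN k) = 1 := congrArg Subtype.val h
      rw [hf, QuotientGroup.mk'_apply, QuotientGroup.eq_one_iff, mem_subgroupOf] at h'
      obtain ⟨w, hw, hwk⟩ := h'
      rwa [show k = w from Subtype.ext hwk.symm]
    · exact (QuotientGroup.eq_one_iff _).mpr (mem_subgroupOf.mpr ⟨k, h, rfl⟩)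
  let e : (K ⧸ Cfsg.pPrimeCore q K) ≃* K' :=
    (QuotientGroup.quotientMulEquivOfEq hgk.symm).trans
      (QuotientGroup.quotientKerEquivOfSurjective g hgs)
  have hO' : Cfsg.pPrimeCore q K' = ⊥ :=
    CfsgLib.PCore.pPrimeCore_eq_bot_of_equiv e CfsgLib.PCore.pPrimeCore_quotient_pPrimeCore
  have hbot : U' = ⊥ := by
    refine eq_bot_of_hyperplanes_reduced hA'e hA'1 ?_ (Group.isSolvable_of_surjective hgs) hO'
      (map_mono (fun _ hx => hU hx)) ?_ ?_
    · exact fun h => hK (h.trans (((card_map_dvd _ _)).trans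
        (Nat.card_congr (subgroupOfEquivOfLe hKN).toEquiv).dvd))
    · exact fun h => hUq (h.trans (((card_map_dvd _ _)).trans
        (Nat.card_congr (subgroupOfEquivOfLe (hU.trans hKN)).toEquiv).dvd))
    · intro B' hB' hidx
      set B₁ := A.subgroupOf N ⊓ B'.comap f with hB₁
      have hBmap : B₁.map f = B' := by
        refine le_antisymm (map_le_iff_le_comap.mpr inf_le_right) fun y hy => ?_
        obtain ⟨a, ha, rfl⟩ := hB' hy
        exact mem_map_of_mem f (mem_inf.mpr ⟨ha, hy⟩)
      have hBidx : (B₁.map N.subtype).relIndex A = p := by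
        have h1 : B₁.relIndex (A.subgroupOf N) = p := by
          rw [hB₁, inf_relIndex_left, relIndex_comap, ← hA', hidx]
        rwa [← relIndex_map_map_of_injective _ _ (subtype_injective N),
          map_subgroupOf_eq_of_le hAK] at h1
      have hBle : B₁.map N.subtype ≤ A :=
        (map_mono inf_le_left).trans (map_subgroupOf_eq_of_le hAK).le
      have hCB : K' ⊓ centralizer (B' : Set (N ⧸ O.subgroupOf N)) =
          (K.subgroupOf N ⊓ centralizer (B₁ : Set N)).map f := by
        have hB₁p : IsPGroup p B₁ :=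
          (hAp.comap_subtype).to_le inf_le_left
        rw [CfsgLib.Coprime.map_inf_centralizer f B₁ (K.subgroupOf N) le_normalizer_of_normal
          (coprime_card_of_isPGroup hB₁p
            (fun h => hK (h.trans (Nat.card_congr (subgroupOfEquivOfLe hKN).toEquiv).dvd)))
          (Or.inl (isSolvable_of_isPGroup hB₁p)), hBmap]
      intro h
      apply hcomm _ hBle hBidx
      refine h.trans ?_
      rw [hCB, ← map_commutator]
      refine (card_map_dvd _ _).trans ?_
      rw [← card_map_of_injective (subtype_injective N), map_commutator]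
      refine card_dvd_of_le (commutator_mono (map_subgroupOf_eq_of_le (hU.trans hKN)).le ?_)
      rintro _ ⟨x, hx, rfl⟩
      refine mem_inf.mpr ⟨hx.1, mem_centralizer_iff.mpr ?_⟩
      rintro _ ⟨b, hb, rfl⟩
      exact congrArg Subtype.val (mem_centralizer_iff.mp hx.2 b hb)
  intro u hu
  have h : f ⟨u, hKN (hU hu)⟩ = 1 :=
    mem_bot.mp (hbot ▸ mem_map_of_mem f (show (⟨u, hKN (hU hu)⟩ : N) ∈ U.subgroupOf N from hu))
  rwa [hf, QuotientGroup.mk'_apply, QuotientGroup.eq_one_iff, mem_subgroupOf] at h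

end CfsgLib.Signalizer
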